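import Cfsg.Agent.H662.RIM.AbelA
import Cfsg.Agent.H50.HerDefs
import Cfsg.Agent.S0242
import Cfsg.Agent.S0245
import Cfsg.Agent.S3695

/-!
# S4816, layer (I), ABELIAN: stabilizers in transitive linear groups of order prime to the characteristic (helper662)
-/

set_option autoImplicit false
set_option linter.style.haveILetI false
set_option linter.unusedSectionVars false

namespace Cfsg.Agent.H662.RIM

universe v

/-- the order of `SL(a, F)` is divisible by the order of `F` -/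
theorem card_dvd_SL' (F : Type*) [Field F] [Finite F] {a : ℕ} (ha : 2 ≤ a) :
    Nat.card F ∣ Nat.card (Matrix.SpecialLinearGroup (Fin a) F) := by
  haveI : Fintype F := Fintype.ofFinite F
  obtain ⟨k, rfl⟩ := Nat.exists_eq_add_of_le' ha
  obtain ⟨q, hq⟩ : ∃ q, Fintype.card F = q := ⟨_, rfl⟩
  have hq2 : 2 ≤ q := by rw [← hq]; exact Fintype.one_lt_card
  have h1 := Cfsg.Agent.S0242.result hq (k + 2) (by omega)
  rw [Fin.prod_univ_castSucc, Fin.prod_univ_castSucc] at h1
  simp only [Fin.val_last, Fin.val_castSucc] at h1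
  have h2 : q ^ (k + 2) - q ^ (k + 1) = q ^ (k + 1) * (q - 1) := by
    rw [Nat.mul_sub, mul_one, ← pow_succ]
  rw [h2, mul_comm (q - 1), ← mul_assoc] at h1
  have h4 := Nat.eq_of_mul_eq_mul_right (by omega) h1
  rw [h4, Nat.card_eq_fintype_card, hq]
  exact Dvd.dvd.mul_left (dvd_pow_self q (by omega)) _

/-- `SL(2, F)` has elements of order three. -/
theorem three_dvd_SL2 (F : Type*) [Field F] [Finite F] :
    3 ∣ Nat.card (Matrix.SpecialLinearGroup (Fin 2) F) := by
  classical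
  let M : Matrix.SpecialLinearGroup (Fin 2) F := ⟨!![0, -1; 1, -1], by simp [Matrix.det_fin_two]⟩
  have h3 : M ^ 3 = 1 := by
    apply Subtype.ext
    change (!![0, -1; 1, -1] : Matrix (Fin 2) (Fin 2) F) ^ 3 = 1
    rw [pow_succ, sq, Matrix.mul_fin_two, Matrix.mul_fin_two, Matrix.one_fin_two]
    simp
  have h1 : M ≠ 1 := by
    intro h
    have h2 := congrArg (fun A : Matrix.SpecialLinearGroup (Fin 2) F => A.1 0 0) h
    change (0 : F) = 1 at h2
    exact zero_ne_one h2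
  haveI : Fact (Nat.Prime 3) := ⟨Nat.prime_three⟩
  rw [← orderOf_eq_prime h3 h1]
  exact orderOf_dvd_natCard M

theorem herP {p : ℕ} [hp : Fact p.Prime] (hp2 : p ≠ 2) : HerP.{v} p := by
  intro V _ _ _ hexp H hadd htr hpH
  letI : Module (ZMod p) V := AddCommGroup.zmodModule hexp
  obtain ⟨d, hd⟩ : ∃ d, Module.finrank (ZMod p) V = d := ⟨_, rfl⟩
  have hcard : Nat.card V = p ^ d := by
    rw [← hd]
    exact Cfsg.Agent.H50.Her.card_space (p := p) (V := V)
  have hd1 : 1 ≤ d := by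
    by_contra hcon
    have h1 : d = 0 := by omega
    rw [h1, pow_zero] at hcard
    exact absurd hcard (Finite.one_lt_card (α := V)).ne'
  have hlin : ∀ h ∈ H, ∀ (c : ZMod p) (v : V), h (c • v) = c • h v := by
    intro h hh c v
    have h0 : h 0 = 0 := by
      have h1 := hadd h hh 0 0
      rw [add_zero] at h1
      exact left_eq_add.1 h1
    let f : V →+ V :=
      { toFun := h
        map_zero' := h0
        map_add' := hadd h hh }
    exact (f.toZModLinearMap p).map_smul c v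
  rcases Cfsg.Agent.S3695.result (K := ZMod p) (V := V) p d (ZMod.card p) hd hd1 H hadd
    (fun h hh => ⟨RingEquiv.refl _, fun c v => hlin h hh c v⟩)
    (fun v w hv hw => by
      obtain ⟨h, hh, hv⟩ := htr v w hv hw
      exact ⟨h, hh, 1, by rw [one_smul]; exact hv⟩) with
    ⟨a, b, F, _, _, hab, hF, N, -, h⟩ | ⟨F, i1, i2, e, -, h⟩ | ⟨hn, -, -⟩ | ⟨hn, -, -⟩ | ⟨-, hq4, -⟩ |
    ⟨hn, hq4, h⟩ | ⟨-, hq4, ⟨e⟩⟩
  · exfalso
    have hb : b ≠ 0 := by
      rintro rfl
      rw [mul_zero] at hab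
      omega
    have hqF : p ∣ Fintype.card F := by rw [hF]; exact dvd_pow_self p hb
    rcases h with ⟨ha, ⟨e⟩⟩ | ⟨m, rfl, hm, ⟨e⟩⟩ | ⟨rfl, hq2, -⟩ | ⟨rfl, hF2, -⟩
    · apply hpH
      refine Dvd.dvd.trans ?_ (Subgroup.card_subgroup_dvd_card N)
      rw [Nat.card_congr e.toEquiv]
      exact (by rwa [Nat.card_eq_fintype_card] : p ∣ Nat.card F).trans (card_dvd_SL' F ha)
    · apply hpH
      refine Dvd.dvd.trans ?_ (Subgroup.card_subgroup_dvd_card N)
      rw [Nat.card_congr e.toEquiv, Cfsg.Agent.S0245.result hF m]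
      exact Dvd.dvd.mul_right ((dvd_pow_self p hb).trans (dvd_pow_self _ (by positivity))) _
    · have := hp.out.eq_two_or_odd
      omega
    · rw [hF2] at hqF
      have := Nat.le_of_dvd (by norm_num) hqF
      have := hp.out.two_le
      omega
  · exact Or.inl ⟨F, i1, i2, e, h⟩
  · exact Or.inr (Or.inl (by rw [hcard, hn]))
  · exact Or.inr (Or.inl (by rw [hcard, hn]))
  · exact absurd hq4 hp2
  · right; right
    rcases h with ⟨N, -, hN, hH⟩ | ⟨N, -, ⟨e⟩⟩
    · refine ⟨hq4, by rw [hcard, hn, hq4]; norm_num, ?_⟩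
      have h3 : Nat.Coprime (Nat.card H) 3 := by
        rw [Nat.coprime_comm, Nat.Prime.coprime_iff_not_dvd Nat.prime_three, ← hq4]
        exact hpH
      exact h3.dvd_of_dvd_mul_left (by norm_num at hH ⊢; exact hH : Nat.card H ∣ 3 * 1280)
    · exfalso
      haveI : Fact (Nat.Prime 5) := ⟨by norm_num⟩
      apply hpH
      rw [hq4]
      refine Dvd.dvd.trans ?_ (Subgroup.card_subgroup_dvd_card N)
      rw [Nat.card_congr e.toEquiv]
      exact three_dvd_SL2 (ZMod 5)
  · exfalso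
    haveI : Fact (Nat.Prime 13) := ⟨by norm_num⟩
    apply hpH
    rw [hq4, Nat.card_congr e.toEquiv]
    exact three_dvd_SL2 (ZMod 13)

/-- **ABELIAN**, for permutation groups of the vectors. -/
theorem abel_perm {p : ℕ} [hp : Fact p.Prime] (hp2 : p ≠ 2) {V : Type v} [AddCommGroup V] [Finite V]
    (hexp : ∀ v : V, p • v = 0) (H : Subgroup (Equiv.Perm V)) (hadd : ∀ h ∈ H, ∀ v w : V, h (v + w) = h v + h w)
    (htr : ∀ v w : V, v ≠ 0 → w ≠ 0 → ∃ h ∈ H, h v = w) (hpH : ¬ p ∣ Nat.card H) {e : V} (he : e ≠ 0)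
    {a b : Equiv.Perm V} (ha : a ∈ H) (hb : b ∈ H) (hae : a e = e) (hbe : b e = e) (v : V) : a (b v) = b (a v) :=
  abel_perm_of (herP hp2) hexp H hadd htr hpH he ha hb hae hbe v

/-- **ABELIAN**: `Q` of order prime to `p`, transitive on the nonzero elements of `W`: the elements of `Q` fixing a
nonzero `e` in `W` commute on `W`. -/
theorem abel {p : ℕ} [hp : Fact p.Prime] (hp2 : p ≠ 2) {G : Type*} {V : Type v} [Group G] [Finite G]
    [AddCommGroup V] [Finite V] [DistribMulAction G V] (hexp : ∀ v : V, p • v = 0) (Q : Subgroup G)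
    (hQ : ¬ p ∣ Nat.card Q) (W : AddSubgroup V) (hQW : ∀ g ∈ Q, ∀ w ∈ W, g • w ∈ W)
    (htr : ∀ v ∈ W, ∀ w ∈ W, v ≠ 0 → w ≠ 0 → ∃ g ∈ Q, g • v = w) {e : V} (he : e ∈ W) (he0 : e ≠ 0) {a b : G}
    (ha : a ∈ Q) (hb : b ∈ Q) (hae : a • e = e) (hbe : b • e = e) : ∀ v ∈ W, a • b • v = b • a • v :=
  abel_of (herP hp2) hexp Q hQ W hQW htr he he0 ha hb hae hbe

end Cfsg.Agent.H662.RIM
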