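import Cfsg.Agent.H609.HerExt
import Mathlib

/-!
# S4816, layer (I), ABELIAN: group theory of the case `|V| = 81` (helper662)

`B` a normal subgroup of order `32` of class two with centre `A` of order `2`, `x` an element of order `5` acting without
fixed points on `B / A`, `|H|` divides `1280`. A `2`-subgroup `P` with `P ∩ A = 1` is abelian.
-/

set_option autoImplicit false
set_option linter.style.haveILetI false

namespace Cfsg.Agent.H662.RIM

open Cfsg.Agent.H609.HerExt Cfsg.Agent.H348.Trans
open scoped Pointwise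

variable {H : Type*} [Group H] [Finite H]

/-- counting the fixed points of an element of `2`-power order on a group of order `16` -/
theorem two_dvd_fix (W N : Subgroup H) (hW : Nat.card W = 16) (c : H) {k : ℕ} (hc : c ^ 2 ^ k = 1)
    (hcW : ∀ n ∈ W, c * n * c⁻¹ ∈ W) (hN : ∀ n, n ∈ N ↔ n ∈ W ∧ c * n * c⁻¹ = n) : 2 ∣ Nat.card N := by
  classical
  haveI := Fintype.ofFinite W
  haveI := Fintype.ofFinite N
  haveI : Fact (Nat.Prime 2) := ⟨Nat.prime_two⟩
  let f : Function.End W := fun w => ⟨c * w * c⁻¹, hcW w w.2⟩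
  have hfk : ∀ (k : ℕ) (w : W), (((f ^ k) w : W) : H) = c ^ k * w * (c ^ k)⁻¹ := by
    intro k
    induction k with
    | zero => intro w; simp; rfl
    | succ k ih =>
      intro w
      rw [pow_succ]
      change (((f ^ k) (f w) : W) : H) = _
      rw [ih]
      change c ^ k * (c * w * c⁻¹) * (c ^ k)⁻¹ = _
      rw [pow_succ]
      group
  have hf : f ^ 2 ^ k = 1 := by
    funext w
    apply Subtype.ext
    rw [hfk, hc]
    simp; rfl
  have h1 := Equiv.Perm.card_fixedPoints_modEq hf
  have h2 : Fintype.card (Function.fixedPoints f) = Nat.card N := by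
    rw [← Nat.card_eq_fintype_card]
    refine Nat.card_congr ⟨fun w => ⟨w.1.1, (hN _).2 ⟨w.1.2, congrArg Subtype.val w.2⟩⟩,
      fun n => ⟨⟨n.1, ((hN _).1 n.2).1⟩, Subtype.ext ((hN _).1 n.2).2⟩, fun _ => rfl, fun _ => rfl⟩
  rw [h2, ← Nat.card_eq_fintype_card, hW] at h1
  exact (Nat.modEq_zero_iff_dvd).1 (h1.symm.trans (by decide))

end Cfsg.Agent.H662.RIM
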