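import Cfsg.Agent.H662.RIM.Six
import Cfsg.Agent.H609.ClassTwoOut
import Cfsg.Agent.S0144

/-!
# S4816, layer (I), ABELIAN: transitive linear groups on `81` vectors of order dividing `1280` (helper662)
-/

set_option autoImplicit false
set_option linter.style.haveILetI false
set_option linter.unusedSectionVars false

namespace Cfsg.Agent.H662.RIM

open Cfsg.Agent.H609.HerExt Cfsg.Agent.H348.Trans Module Cfsg.Agent.PermutationGroups.RegularLinear
open scoped Pointwise

universe u

section Comm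

variable {H : Type*} [Group H] [Finite H] {A B : Subgroup H} {x : H}

/-- **A `2`-subgroup meeting `A` trivially is abelian.** -/
theorem Sit.comm {K : Type*} [Field K] (S : Sit A B x) (ι : A →* Kˣ) (hι : Function.Injective ι)
    (hH : Nat.card H ∣ 1280) {P : Subgroup H} {k : ℕ} (hP : Nat.card P = 2 ^ k) (hPA : ∀ a ∈ P, a ∈ A → a = 1) :
    ∀ a ∈ P, ∀ b ∈ P, a * b = b * a := by
  classical
  haveI := S.hAn
  haveI := S.hBn
  haveI : Fact (Nat.Prime 5) := ⟨by norm_num⟩
  have hB := S.card_B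
  have hpow : ∀ a ∈ P, a ^ 2 ^ k = 1 := by
    intro a ha
    have h1 : (⟨a, ha⟩ : P) ^ Nat.card P = 1 := pow_card_eq_one'
    rw [hP] at h1
    exact congrArg Subtype.val h1
  -- the quotient
  have hq : Nat.card (H ⧸ B) ∣ 40 := by
    have h1 := Subgroup.card_mul_index B
    rw [hB] at h1
    have h2 : 32 * B.index ∣ 32 * 40 := by rw [h1]; exact hH
    exact (Nat.mul_dvd_mul_iff_left (by norm_num)).1 h2
  have hxB : x ∉ B := by
    intro hxB
    have h1 : (⟨x, hxB⟩ : B) ^ Nat.card B = 1 := pow_card_eq_one'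
    rw [hB] at h1
    have h2 : x ^ 32 = 1 := congrArg Subtype.val h1
    have h3 : x = 1 := by
      have h4 : x ^ 65 = 1 := by
        rw [show 65 = 5 * 13 by norm_num, pow_mul, S.hx, one_pow]
      have h5 : x ^ 65 = x := by
        rw [show 65 = 32 * 2 + 1 by norm_num, pow_succ, pow_mul, h2, one_pow, one_mul]
      rw [← h5, h4]
    have h4 : B ≤ A := by
      intro b hb
      apply S.hfree b hb
      rw [h3, mul_one, inv_one, mul_one, mul_inv_cancel]
      exact A.one_mem
    have h5 := S.h16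
    rw [Subgroup.relIndex_eq_one.2 h4] at h5
    norm_num at h5
  have hx1 : (x : H ⧸ B) ≠ 1 := fun h => hxB ((QuotientGroup.eq_one_iff x).1 h)
  have hx5 : (x : H ⧸ B) ^ 5 = 1 := by rw [← QuotientGroup.mk_pow, S.hx]; rfl
  have hord : orderOf (x : H ⧸ B) = 5 := orderOf_eq_prime hx5 hx1
  -- the Sylow subgroup of order five
  obtain ⟨F, hF⟩ := (IsPGroup.of_card (p := 5) (n := 1) (G := Subgroup.zpowers (x : H ⧸ B)) (by
    rw [Nat.card_zpowers, hord, pow_one])).exists_le_sylow
  have hxF : (x : H ⧸ B) ∈ (F : Subgroup (H ⧸ B)) := hF (Subgroup.mem_zpowers _)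
  have hF5 : Nat.card (F : Subgroup (H ⧸ B)) = 5 := by
    obtain ⟨n, hn⟩ := IsPGroup.iff_card.1 F.isPGroup'
    have h1 : Nat.card (F : Subgroup (H ⧸ B)) ∣ 40 :=
      (Subgroup.card_subgroup_dvd_card (F : Subgroup (H ⧸ B))).trans hq
    have h2 : 5 ∣ Nat.card (F : Subgroup (H ⧸ B)) := by
      have h3 := Subgroup.orderOf_dvd_natCard (F : Subgroup (H ⧸ B)) hxF
      rwa [hord] at h3
    rw [hn] at h1 h2 ⊢
    have h3 : n ≤ 1 := by
      by_contra hcon
      have h4 : 5 ^ 2 ∣ 5 ^ n := pow_dvd_pow 5 (by omega)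
      exact absurd (h4.trans h1) (by norm_num)
    interval_cases n
    · norm_num at h2
    · norm_num
  have hidx : (F : Subgroup (H ⧸ B)).index ∣ 8 := by
    have h1 := Subgroup.card_mul_index (F : Subgroup (H ⧸ B))
    have h2 : Nat.card (F : Subgroup (H ⧸ B)) = 5 := hF5
    rw [h2] at h1
    have h3 : 5 * (F : Subgroup (H ⧸ B)).index ∣ 5 * 8 := by rw [h1]; exact hq
    exact (Nat.mul_dvd_mul_iff_left (by norm_num)).1 h3
  have hone : Nat.card (Sylow 5 (H ⧸ B)) = 1 := by
    have h1 := card_sylow_modEq_one 5 (H ⧸ B)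
    have h2 := F.card_dvd_index.trans hidx
    generalize Nat.card (Sylow 5 (H ⧸ B)) = m at *
    have h3 : m ≤ 8 := Nat.le_of_dvd (by norm_num) h2
    interval_cases m <;> first | rfl | omega | (exfalso; revert h1; decide)
  haveI : Subsingleton (Sylow 5 (H ⧸ B)) := (Nat.card_eq_one_iff_unique.1 hone).1
  haveI hFn : (F : Subgroup (H ⧸ B)).Normal := F.normal_of_subsingleton
  haveI : IsCyclic (F : Subgroup (H ⧸ B)) := isCyclic_of_prime_card hF5
  haveI : IsCyclic (ZMod (Nat.card (F : Subgroup (H ⧸ B))))ˣ := by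
    have h2 : Nat.card (F : Subgroup (H ⧸ B)) = 5 := hF5
    rw [h2]
    exact ZMod.isCyclic_units_prime (by norm_num)
  haveI : IsCyclic (MulAut (F : Subgroup (H ⧸ B))) :=
    isCyclic_of_surjective (IsCyclic.mulAutMulEquiv (F : Subgroup (H ⧸ B))).symm
      (IsCyclic.mulAutMulEquiv (F : Subgroup (H ⧸ B))).symm.surjective
  let f : P →* MulAut (F : Subgroup (H ⧸ B)) :=
    (MulAut.conjNormal (H := (F : Subgroup (H ⧸ B)))).comp ((QuotientGroup.mk' B).comp P.subtype)
  have hker : f.ker ≤ Subgroup.center P := by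
    intro c hc
    have h1 : f c ⟨(x : H ⧸ B), hxF⟩ = ⟨(x : H ⧸ B), hxF⟩ := by
      rw [MonoidHom.mem_ker.1 hc]; rfl
    have h2 : ((c : H) : H ⧸ B) * x * ((c : H) : H ⧸ B)⁻¹ = x := by
      have h3 := congrArg (fun w : (F : Subgroup (H ⧸ B)) => (w : H ⧸ B)) h1
      exact (MulAut.conjNormal_apply _ _).symm.trans h3
    have h3 : (c : H) * x * (c : H)⁻¹ * x⁻¹ ∈ B := by
      rw [← QuotientGroup.eq_one_iff]
      change ((c : H) : H ⧸ B) * x * ((c : H) : H ⧸ B)⁻¹ * (x : H ⧸ B)⁻¹ = 1
      rw [h2, mul_inv_cancel]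
    have hcB := S.mem_B_of_comm ι hι (hpow c c.2) h3
    rw [Subgroup.mem_center_iff]
    intro d
    by_cases hc1 : (c : H) = 1
    · have : c = 1 := Subtype.ext hc1
      rw [this, mul_one, one_mul]
    · have h4 := S.eq_of_mem hPA (P.mul_mem (P.mul_mem d.2 c.2) (P.inv_mem d.2)) (S.hBn.conj_mem _ hcB d) c.2 hcB
        (fun h => hc1 (conj_eq_one_iff.1 h)) hc1
      apply Subtype.ext
      exact mul_inv_eq_iff_eq_mul.1 h4
  intro a ha b hb
  exact congrArg Subtype.val ((f.isMulCommutative_of_isCyclic_of_ker_le_center hker).is_comm.comm ⟨a, ha⟩ ⟨b, hb⟩)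

end Comm

theorem solvable_of_dvd {H : Type*} [Group H] [Finite H] (hH : Nat.card H ∣ 1280) : Group.IsSolvable H := by
  have h1 : Nat.card H ∣ 2 ^ 8 * 5 := by norm_num; exact hH
  obtain ⟨d₁, d₂, h2, h3, h4⟩ := (Nat.dvd_mul).1 h1
  obtain ⟨i, -, rfl⟩ := (Nat.dvd_prime_pow Nat.prime_two).1 h2
  rcases (Nat.dvd_prime (by norm_num : Nat.Prime 5)).1 h3 with rfl | rfl
  · exact Cfsg.Agent.S0144.result 2 5 i 0 Nat.prime_two (by norm_num) (by rw [← h4]; norm_num)
  · exact Cfsg.Agent.S0144.result 2 5 i 1 Nat.prime_two (by norm_num) (by rw [← h4]; norm_num)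

/-- **The case of dimension four over the field of order three.** -/
theorem four_lin {q : ℕ} [hq : Fact q.Prime] (hq3 : q = 3) {V : Type u} [AddCommGroup V] [Module (ZMod q) V] [Finite V]
    [Nontrivial V] (h81 : Nat.card V = 81) (H : Subgroup (V ≃ₗ[ZMod q] V)) (hH : Nat.card H ∣ 1280)
    (htr : ∀ v w : V, v ≠ 0 → w ≠ 0 → ∃ h ∈ H, h v = w) :
    (∃ (F : Type) (_ : Field F) (_ : Fintype F) (e : V ≃+ F),
        ∀ g : H, ∃ (a : F) (σ : F ≃+* F), ∀ v : V, e (g • v) = a * σ (e v)) ∨
    ∀ e : V, e ≠ 0 → ∀ a ∈ H, ∀ b ∈ H, a e = e → b e = e → a * b = b * a := by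
  classical
  haveI hfgl : Finite (V ≃ₗ[ZMod q] V) := finite_gl
  haveI := solvable_of_dvd hH
  -- a maximal abelian normal subgroup
  obtain ⟨A, ⟨hAn, hAc⟩, hmax⟩ := (Set.toFinite {A : Subgroup H | A.Normal ∧
    IsMulCommutative A}).exists_maximal ⟨⊥, inferInstance, ⟨⟨fun a b => by
      rw [Subsingleton.elim a b]⟩⟩⟩
  haveI := hAn
  obtain ⟨hfin, K, _, _, _, _, S, hSA⟩ := exists_setup H htr A hAn hAc
  by_cases hne : Subgroup.centralizer (A : Set H) = A
  · left
    refine S.semilinear (S.finrank_eq_one ?_)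
    rw [hSA]; exact hne
  · right
    obtain ⟨ℓ, hℓ, B, hBn, hAB, hBA, hBC, hcomm, hpow⟩ := exists_normal A hAc hne
    haveI : Fact ℓ.Prime := ⟨hℓ⟩
    haveI := hBn
    have hBna : ¬ IsMulCommutative B := by
      intro h
      exact hBA (le_antisymm (hmax ⟨hBn, h⟩ hAB) hAB)
    have hirr := irreducible_of_normal_nonabelian H htr B hBn hBna
    have hCc := centralizer_comm_of_irreducible H B hirr
    have hACB : A ≤ Subgroup.centralizer (B : Set H) := by
      intro a ha
      rw [Subgroup.mem_centralizer_iff]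
      intro b hb
      exact ((Subgroup.mem_centralizer_iff.1 (hBC hb)) a ha).symm
    have hCle : Subgroup.centralizer (B : Set H) ≤ A := hmax ⟨inferInstance, hCc⟩ hACB
    subst hSA
    let D : S.BData ℓ :=
      { B := B
        B_normal := hBn
        A_le := hAB
        ne := hBA
        B_le := hBC
        comm_mem := hcomm
        pow_mem := hpow
        centralizer_le := hCle }
    have hcV := Setup.card_V' (q := q) (K := K) (V := V)
    have hn : finrank (ZMod q) K * finrank K V = 4 := by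
      rw [h81] at hcV
      generalize finrank (ZMod q) K * finrank K V = m at hcV ⊢
      rw [hq3] at hcV
      have h1 : (3 : ℕ) ^ 4 = 3 ^ m := by rw [← hcV]; norm_num
      exact (Nat.pow_right_injective (by norm_num : 2 ≤ 3) h1).symm
    obtain ⟨hℓ2, hA2, h16, x, hx, hfree⟩ := Cfsg.Agent.H609.ClassTwoOut.four_facts D hq3 hn
    subst hℓ2
    have hS : Sit S.A B x := ⟨hAn, hBn, hAB, hA2, h16, hpow, hcomm, hCle, hx, hfree⟩
    intro e he a ha b hb hae hbe
    -- the stabilizer
    let P : Subgroup H := MulAction.stabilizer H e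
    have hPcard : ∃ k, Nat.card P = 2 ^ k := by
      have h1 : MulAction.orbit H e = {w : V | w ≠ 0} := by
        ext w
        constructor
        · rintro ⟨h, rfl⟩
          change h • e ≠ 0
          rwa [Ne, smul_eq_zero_iff_eq]
        · intro hw
          obtain ⟨h, hh, rfl⟩ := htr e w he hw
          exact ⟨⟨h, hh⟩, rfl⟩
      have h2 : P.index = 80 := by
        haveI := Fintype.ofFinite V
        have h3 : Nat.card {w : V | w ≠ 0} = Nat.card V - 1 := by
          rw [Nat.card_eq_fintype_card, Nat.card_eq_fintype_card]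
          have := Set.card_ne_eq (0 : V)
          convert this
        rw [MulAction.index_stabilizer, h1, ← Nat.card_coe_set_eq, h3, h81]
      have h3 := Subgroup.card_mul_index P
      rw [h2] at h3
      have h4 : Nat.card P * 80 ∣ 16 * 80 := by rw [h3]; exact hH
      have h5 : Nat.card P ∣ 2 ^ 4 := by
        norm_num
        exact (Nat.mul_dvd_mul_iff_right (by norm_num)).1 h4
      obtain ⟨k, -, hk⟩ := (Nat.dvd_prime_pow Nat.prime_two).1 h5
      exact ⟨k, hk⟩
    obtain ⟨k, hk⟩ := hPcard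
    have hPA : ∀ g ∈ P, g ∈ S.A → g = 1 := by
      intro g hg hgA
      have h1 := S.ι_spec ⟨g, hgA⟩ e
      have h2 : g • e = e := hg
      change g • e = _ at h1
      rw [h2] at h1
      have h3 : (((S.ι ⟨g, hgA⟩ : Kˣ) : K) - 1) • e = 0 := by rw [sub_smul, one_smul, ← h1, sub_self]
      have h4 : ((S.ι ⟨g, hgA⟩ : Kˣ) : K) = 1 := sub_eq_zero.1 ((smul_eq_zero.1 h3).resolve_right he)
      have h5 : (⟨g, hgA⟩ : S.A) = 1 := by
        apply S.ι_injective
        rw [map_one]
        exact Units.ext h4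
      exact congrArg Subtype.val h5
    have h6 := hS.comm S.ι S.ι_injective hH hk hPA ⟨a, ha⟩ hae ⟨b, hb⟩ hbe
    exact congrArg Subtype.val h6

end Cfsg.Agent.H662.RIM
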